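import Cfsg.Agent.Lib.Helper55.CTI.BlkCCOf
import Cfsg.Agent.Lib.Helper71.CTI.Center

/-!
# Project CTI (S4064), module [BLK-CC] (helper55): exact statement
-/

set_option autoImplicit false

namespace Cfsg.Agent.Lib.Helper31.CTI

open Cfsg

variable {G : Type*} [Group G]

/-- [BLK-CC] For `z ≠ 1` central in a Sylow subgroup `P`, `C(z)` contains the centralizers of its
nonidentity elements. -/
theorem block_cc [Finite G] (hG : IsCTI G) (p : ℕ) [Fact p.Prime] (P : Sylow p G) (z : G)
    (hzP : z ∈ (P : Subgroup G)) (hzc : ∀ y ∈ (P : Subgroup G), y * z = z * y) (hz1 : z ≠ 1) :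
    ∀ m ∈ Subgroup.centralizer ({z} : Set G), m ≠ 1 →
      Subgroup.centralizer ({m} : Set G) ≤ Subgroup.centralizer ({z} : Set G) :=
  Cfsg.Agent.Lib.Helper55.CTI.block_cc_of hG (isCNGroup_of_cti hG) p P z hzP hzc hz1

end Cfsg.Agent.Lib.Helper31.CTI
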