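import Cfsg.Agent.Lib.Helper31.CTI.Defs
import Cfsg.Agent.Lib.Helper65.NilpBasic

/-!
# Project CTI (S4064), module [BLK-CC] in `_of` form (helper55, hedge)

`block_cc_of`: the statement of `block_cc` with the CN property as an extra hypothesis.
-/

set_option autoImplicit false

namespace Cfsg.Agent.Lib.Helper55.CTI

open Cfsg Cfsg.Agent.Lib.Helper31.CTI

variable {G : Type*} [Group G]

/-- A `p`-element which maps the Sylow `p`-subgroup `P` into itself by conjugation lies in `P`. -/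
theorem mem_sylow_of_conj_mem [Finite G] {p : ℕ} [Fact p.Prime] (P : Sylow p G) {y : G} {k : ℕ}
    (hy : y ^ p ^ k = 1) (hn : ∀ u ∈ (P : Subgroup G), y * u * y⁻¹ ∈ (P : Subgroup G)) :
    y ∈ (P : Subgroup G) := by
  have hyN : y ∈ Subgroup.normalizer ((P : Subgroup G) : Set G) :=
    Subgroup.mem_normalizer_fintype (fun n hn' => hn n hn')
  have hZ : IsPGroup p (Subgroup.zpowers y) := by
    rw [IsPGroup.iff_card]
    have h1 : Nat.card (Subgroup.zpowers y) = orderOf y := Nat.card_zpowers y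
    rw [h1]
    exact (Nat.dvd_prime_pow (Fact.out : p.Prime)).mp (orderOf_dvd_of_pow_eq_one hy) |>.imp
      (fun j hj => hj.2)
  have hle : Subgroup.zpowers y ≤ Subgroup.normalizer ((P : Subgroup G) : Set G) := by
    rw [Subgroup.zpowers_le]; exact hyN
  have hsup : IsPGroup p (Subgroup.zpowers y ⊔ (P : Subgroup G) : Subgroup G) :=
    hZ.to_sup_of_normal_right' P.2 hle
  have heq : Subgroup.zpowers y ⊔ (P : Subgroup G) = (P : Subgroup G) :=
    P.3 hsup le_sup_right
  rw [← heq]
  exact Subgroup.mem_sup_left (Subgroup.mem_zpowers y)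

/-- In a finite group, if `P` is a Sylow `p`-subgroup of `G` contained in a nilpotent subgroup `M`,
every `p`-element of `M` lies in `P`. -/
theorem mem_sylow_of_mem_nilpotent [Finite G] {p : ℕ} [Fact p.Prime] (P : Sylow p G)
    {M : Subgroup G} (hPM : (P : Subgroup G) ≤ M) (hM : Group.IsNilpotent M) {y : G} {k : ℕ}
    (hyM : y ∈ M) (hy : y ^ p ^ k = 1) : y ∈ (P : Subgroup G) := by
  have hnorm : ∀ (q : ℕ) (_hq : Fact q.Prime) (Q : Sylow q M), (Q : Subgroup M).Normal :=
    ((Group.isNilpotent_of_finite_tfae (G := M)).out 0 3).mp hM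
  have h1 : ((P.subtype hPM : Sylow p M) : Subgroup M).Normal := hnorm p inferInstance _
  have h2 : ((P : Subgroup G).subgroupOf M).Normal := by
    have : ((P.subtype hPM : Sylow p M) : Subgroup M) = (P : Subgroup G).subgroupOf M := rfl
    rw [← this]; exact h1
  have h3 : M ≤ Subgroup.normalizer ((P : Subgroup G) : Set G) :=
    (Subgroup.normal_subgroupOf_iff_le_normalizer hPM).mp h2
  apply mem_sylow_of_conj_mem P hy
  intro u hu
  exact (Subgroup.mem_normalizer_iff.mp (h3 hyM) u).mp hu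

/-- Decomposition of an element into commuting `p'`- and `p`-parts (both powers of the element). -/
theorem exists_zpow_decomp [Finite G] (p : ℕ) [Fact p.Prime] (g : G) :
    ∃ (a b : ℤ) (k r : ℕ), r.Coprime p ∧ g = g ^ a * g ^ b ∧ (g ^ a) ^ r = 1 ∧
      (g ^ b) ^ p ^ k = 1 := by
  have hp : p.Prime := Fact.out
  set n := orderOf g with hn
  have hn0 : n ≠ 0 := (orderOf_pos g).ne'
  set k := n.factorization p with hk
  set r := n / p ^ k with hr
  have hmul : p ^ k * r = n := Nat.ordProj_mul_ordCompl_eq_self n p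
  have hcop : Nat.Coprime p r := Nat.coprime_ordCompl hp hn0
  have hcop' : Nat.Coprime (p ^ k) r := Nat.Coprime.pow_left k hcop
  have hbez := Nat.gcd_eq_gcd_ab (p ^ k) r
  rw [hcop'.gcd_eq_one] at hbez
  refine ⟨(p ^ k : ℕ) * Nat.gcdA (p ^ k) r, (r : ℤ) * Nat.gcdB (p ^ k) r, k, r, hcop.symm, ?_, ?_, ?_⟩
  · rw [← zpow_add, ← hbez]
    simp
  · rw [← zpow_natCast, ← zpow_mul]
    have : ((p ^ k : ℕ) : ℤ) * Nat.gcdA (p ^ k) r * (r : ℤ) = (n : ℤ) * Nat.gcdA (p ^ k) r := by
      rw [← hmul]; push_cast; ring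
    rw [this, zpow_mul, zpow_natCast, hn, pow_orderOf_eq_one, one_zpow]
  · rw [← zpow_natCast, ← zpow_mul]
    have : (r : ℤ) * Nat.gcdB (p ^ k) r * ((p ^ k : ℕ) : ℤ) = (n : ℤ) * Nat.gcdB (p ^ k) r := by
      rw [← hmul]; push_cast; ring
    rw [this, zpow_mul, zpow_natCast, hn, pow_orderOf_eq_one, one_zpow]

/-- [BLK-CC] in `_of` form: the CN property is a hypothesis. -/
theorem block_cc_of [Finite G] (hG : IsCTI G) (hCN : Cfsg.IsCNGroup G) (p : ℕ) [Fact p.Prime]
    (P : Sylow p G) (z : G)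
    (hzP : z ∈ (P : Subgroup G)) (hzc : ∀ y ∈ (P : Subgroup G), y * z = z * y) (hz1 : z ≠ 1) :
    ∀ m ∈ Subgroup.centralizer ({z} : Set G), m ≠ 1 →
      Subgroup.centralizer ({m} : Set G) ≤ Subgroup.centralizer ({z} : Set G) := by
  have hp : p.Prime := Fact.out
  intro m hmM hm1 g hgC
  set M := Subgroup.centralizer ({z} : Set G) with hMdef
  set C := Subgroup.centralizer ({m} : Set G) with hCdef
  have hMnil : Group.IsNilpotent M := hCN z hz1
  have hCnil : Group.IsNilpotent C := hCN m hm1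
  -- `P ≤ M`
  have hPM : (P : Subgroup G) ≤ M := by
    intro y hy
    rw [hMdef, Subgroup.mem_centralizer_iff]
    rintro _ rfl
    exact (hzc y hy).symm
  -- `z ∈ C`
  have hzm : z * m = m * z := by
    have := (Subgroup.mem_centralizer_iff.mp hmM) z rfl
    exact this
  have hzC : z ∈ C := by
    rw [hCdef, Subgroup.mem_centralizer_iff]
    rintro _ rfl
    exact hzm.symm
  -- `C ≤ N(M)`
  have hCN' : ∀ c ∈ C, c ∈ Subgroup.normalizer (M : Set G) := by
    intro c hc
    by_contra hcn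
    apply hm1
    refine hG z c hcn m hmM ?_
    have hcm : m * c = c * m := (Subgroup.mem_centralizer_iff.mp hc) m rfl
    have : c * m * c⁻¹ = m := by rw [← hcm, mul_inv_cancel_right]
    rw [this]; exact hmM
  -- `p`-elements of `N(M)` lie in `P`
  have hpel : ∀ (y : G) (k : ℕ), y ∈ Subgroup.normalizer (M : Set G) → y ^ p ^ k = 1 →
      y ∈ (P : Subgroup G) := by
    intro y k hyN hy
    apply mem_sylow_of_conj_mem P hy
    intro u hu
    have huM : y * u * y⁻¹ ∈ M := (Subgroup.mem_normalizer_iff.mp hyN u).mp (hPM hu)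
    obtain ⟨j, hj⟩ := (IsPGroup.iff_orderOf.mp P.2) ⟨u, hu⟩
    have hupow : u ^ p ^ j = 1 := by
      have := pow_orderOf_eq_one (⟨u, hu⟩ : (P : Subgroup G))
      rw [hj] at this
      exact congrArg Subtype.val this
    apply mem_sylow_of_mem_nilpotent P hPM hMnil huM (k := j)
    rw [conj_pow, hupow, mul_one, mul_inv_cancel]
  -- decomposition of `g`
  obtain ⟨a, b, k, r, hrp, hgab, hga, hgb⟩ := exists_zpow_decomp p g
  have hgaC : g ^ a ∈ C := C.zpow_mem hgC a
  have hgbC : g ^ b ∈ C := C.zpow_mem hgC b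
  have hgbM : g ^ b ∈ M := hPM (hpel _ k (hCN' _ hgbC) hgb)
  -- `g ^ a` commutes with `z`
  have hgaM : g ^ a ∈ M := by
    obtain ⟨j, hj⟩ := (IsPGroup.iff_orderOf.mp P.2) ⟨z, hzP⟩
    have hzord : orderOf z = p ^ j := by
      rw [← hj]; exact (Subgroup.orderOf_mk z hzP).symm
    have hcop : (orderOf (g ^ a)).Coprime (orderOf z) := by
      rw [hzord]
      apply Nat.Coprime.pow_right
      exact Nat.Coprime.coprime_dvd_left (orderOf_dvd_of_pow_eq_one hga) hrp
    have : Group.IsNilpotent C := hCnil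
    have hcomm : Commute (⟨g ^ a, hgaC⟩ : C) ⟨z, hzC⟩ := by
      apply Cfsg.Agent.Lib.Helper65.commute_of_coprime_orderOf
      rw [Subgroup.orderOf_mk, Subgroup.orderOf_mk]
      exact hcop
    have hcomm' : g ^ a * z = z * g ^ a := congrArg Subtype.val hcomm.eq
    rw [hMdef, Subgroup.mem_centralizer_iff]
    rintro _ rfl
    exact hcomm'.symm
  rw [hgab]
  exact M.mul_mem hgaM hgbM

end Cfsg.Agent.Lib.Helper55.CTI
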